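import Mathlib.AlgebraicTopology.DoldKan.Degeneracies
import Mathlib.AlgebraicTopology.DoldKan.Normalized
import Mathlib.AlgebraicTopology.DoldKan.Decomposition
import Mathlib.CategoryTheory.Adjunction.Evaluation
import Mathlib.CategoryTheory.Limits.Shapes.FiniteProducts
import Mathlib.CategoryTheory.Subobject.Lattice
import Mathlib.CategoryTheory.Abelian.Basic
import Mathlib.Tactic

/-!
Generation of skeleta of simplicial objects, detection of zero simplicial objects by `PInfty`.
-/

set_option autoImplicit false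
universe v u

open CategoryTheory CategoryTheory.Limits Opposite AlgebraicTopology AlgebraicTopology.DoldKan
  Simplicial

namespace Groth.Agent.SkelGen

variable {A : Type u} [Category.{v} A] [Abelian A]

instance (a b : SimplexCategoryᵒᵖ) : HasProductsOfShape (a ⟶ b) A :=
  have : Finite (a ⟶ b) := Finite.of_equiv _ (opEquiv a b).symm
  inferInstance

/-- A skeleton is generated by its simplices in low dimension. -/
theorem eq_zero_of_comp_map (m : ℕ)
    [∀ F : (SimplexCategory.Truncated m)ᵒᵖ ⥤ A, (SimplexCategory.Truncated.inclusion m).op.HasLeftKanExtension F]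
    (U : SimplicialObject.Truncated A m) (n : ℕ) {Z : A}
    (g : ((SimplicialObject.Truncated.sk m).obj U).obj (op ⦋n⦌) ⟶ Z)
    (hg : ∀ (i : ℕ), i ≤ m → ∀ θ : ⦋n⦌ ⟶ ⦋i⦌,
      ((SimplicialObject.Truncated.sk m).obj U).map θ.op ≫ g = 0) : g = 0 := by
  let X := (SimplicialObject.Truncated.sk m).obj U
  let R : SimplicialObject A :=
    (evaluationRightAdjoint A (op (SimplexCategory.mk n))).obj Z
  let Φ : X ⟶ R := (evaluationAdjunctionLeft A (op (SimplexCategory.mk n))).homEquiv X _ g
  have hΦ : Φ = 0 := by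
    apply ((SimplicialObject.skAdj m).homEquiv U R).injective
    rw [Adjunction.homEquiv_unit, Adjunction.homEquiv_unit]
    congr 1
    apply NatTrans.ext
    funext a
    apply Pi.hom_ext
    intro θ
    have e : Φ.app ((SimplexCategory.Truncated.inclusion m).op.obj a) ≫ Pi.π _ θ =
        X.map θ ≫ g := by
      simp only [Φ, evaluationAdjunctionLeft, Adjunction.mkOfHomEquiv_homEquiv]
      exact Pi.lift_π _ _
    exact e.trans ((hg a.unop.1.len a.unop.2 θ.unop).trans zero_comp.symm)
  exact ((evaluationAdjunctionLeft A (op (SimplexCategory.mk n))).homEquiv X _).injective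
    (hΦ.trans (by
      apply NatTrans.ext; funext a
      dsimp [evaluationAdjunctionLeft]
      apply Pi.hom_ext; intro θ
      simp; exact zero_comp))

instance (n : ℕ) (F : (SimplexCategory.Truncated n)ᵒᵖ ⥤ A) :
    (SimplexCategory.Truncated.inclusion n).op.HasPointwiseLeftKanExtension F := fun Y => by
  have : Finite (SimplexCategory.Truncated n) :=
    Finite.of_injective (fun a => (⟨a.1.len, Nat.lt_succ_of_le a.2⟩ : Fin (n + 1)))
      fun a b h => ObjectProperty.FullSubcategory.ext (SimplexCategory.ext (congrArg Fin.val h))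
  have : Finite (SimplexCategory.Truncated n)ᵒᵖ := Finite.of_equiv _ Opposite.equivToOpposite
  have (a b : SimplexCategoryᵒᵖ) : Finite (a ⟶ b) := Finite.of_equiv _ (opEquiv a b).symm
  let J := CostructuredArrow (SimplexCategory.Truncated.inclusion n).op Y
  have : Finite J := Finite.of_injective
    (fun j : J => (⟨j.left, j.hom⟩ : Σ a, (SimplexCategory.Truncated.inclusion n).op.obj a ⟶ Y))
    (fun ⟨a, ⟨⟨⟩⟩, f⟩ ⟨b, ⟨⟨⟩⟩, g⟩ h => by
      obtain ⟨rfl, h⟩ := Sigma.mk.inj_iff.1 h
      obtain rfl := eq_of_heq h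
      rfl)
  have (j k : J) : Finite (j ⟶ k) := Finite.of_injective
    (fun φ => (SimplexCategory.Truncated.inclusion n).op.map φ.left)
    (fun φ ψ h => CostructuredArrow.hom_ext _ _
      ((SimplexCategory.Truncated.inclusion n).op.map_injective h))
  let : FinCategory J := { fintypeObj := Fintype.ofFinite J, fintypeHom := fun j k => Fintype.ofFinite _ }
  infer_instance

theorem not_mono_of_lt {n i : ℕ} (h : i < n) (θ : ⦋n⦌ ⟶ ⦋i⦌) : ¬ Mono θ := fun _ => by
  have := SimplexCategory.len_le_of_mono θ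
  simp at this
  omega

theorem pInfty_sk_eq_zero (m : ℕ)
    [∀ F : (SimplexCategory.Truncated m)ᵒᵖ ⥤ A, (SimplexCategory.Truncated.inclusion m).op.HasLeftKanExtension F]
    (U : SimplicialObject.Truncated A m) (n : ℕ) (hn : m < n) :
    (PInfty (X := (SimplicialObject.Truncated.sk m).obj U)).f n = 0 :=
  eq_zero_of_comp_map m U n _ fun _ hi θ =>
    degeneracy_comp_PInfty _ n θ (not_mono_of_lt (hi.trans_lt hn) θ)

/-- A simplicial object on which `PInfty` vanishes is zero. -/
theorem isZero_obj_of_pInfty_eq_zero (K : SimplicialObject A)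
    (h : ∀ n, (PInfty (X := K)).f n = 0) : ∀ n, IsZero (K.obj (op ⦋n⦌))
  | 0 => by
    rw [IsZero.iff_id_eq_zero, ← P_add_Q_f 0 0]
    have := h 0
    rw [PInfty_f] at this
    rw [this, zero_add, Q_f_0_eq]
  | n + 1 => by
    rw [IsZero.iff_id_eq_zero, ← P_add_Q_f (n + 1) (n + 1)]
    have := h (n + 1)
    rw [PInfty_f] at this
    rw [this, zero_add, decomposition_Q]
    refine Finset.sum_eq_zero fun i _ => ?_
    rw [show K.δ i.rev.succ = 0 from (isZero_obj_of_pInfty_eq_zero K h n).eq_of_tgt _ _, zero_comp,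
      comp_zero]

theorem mono_of_pInfty {X Y : SimplicialObject A} (f : X ⟶ Y)
    (h : ∀ n, (PInfty (X := X)).f n = 0 ∨ Mono (f.app (op ⦋n⦌))) : Mono f := by
  refine Preadditive.mono_of_kernel_zero (IsZero.eq_of_src ?_ _ _)
  refine Functor.isZero _ fun a => isZero_obj_of_pInfty_eq_zero _ (fun n => ?_) a.unop.len
  have : Mono ((kernel.ι f).app (op ⦋n⦌)) := inferInstance
  rw [← cancel_mono ((kernel.ι f).app (op ⦋n⦌)), zero_comp, ← PInfty_f_naturality]
  rcases h n with h | h
  · rw [h, comp_zero]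
  · have e : (kernel.ι f).app (op ⦋n⦌) ≫ f.app (op ⦋n⦌) = 0 := by
      rw [← NatTrans.comp_app, kernel.condition]
      rfl
    rw [zero_of_comp_mono _ e, zero_comp]

theorem factors_of_isLUB {U : SimplicialObject A} {n : ℕ}
    {U' : ∀ m : ℕ, Subobject (U.obj (op (SimplexCategory.mk m)))}
    (hU' : ∀ m : ℕ, IsLUB (Set.range (fun φ : Σ i : Fin (n + 1),
      (SimplexCategory.mk m ⟶ SimplexCategory.mk i) => imageSubobject (U.map φ.2.op))) (U' m))
    {m i : ℕ} (hi : i ≤ n) (θ : ⦋m⦌ ⟶ ⦋i⦌) :
    imageSubobject (U.map θ.op) ≤ U' m :=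
  (hU' m).1 ⟨⟨⟨i, Nat.lt_succ_of_le hi⟩, θ⟩, rfl⟩

end Groth.Agent.SkelGen
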